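import Groth.Agent.Lib.T2Ext3.Basic
import Mathlib.RingTheory.PowerSeries.NoZeroDivisors
import Mathlib.RingTheory.Length
import Mathlib.Data.Set.Card

/-!
# `Ext¹` between monomial modules over a monomial subring of `k⟦t⟧`
-/

set_option autoImplicit false
set_option linter.style.haveILetI false
universe u v

open CategoryTheory PowerSeries

namespace Groth.Agent.MonoExt1

variable {k : Type u} [Field k] (A : Type u) [CommRing A] [Algebra A (PowerSeries k)] {S : Set ℕ}

/-- `S`-stable set of exponents -/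
def Closed (S Δ : Set ℕ) : Prop := ∀ s ∈ S, ∀ p ∈ Δ, s + p ∈ Δ

/-- the module of power series with exponents in `Δ` (when `Δ` is stable) -/
noncomputable def mono (Δ : Set ℕ) : Submodule A (PowerSeries k) where
  carrier := {f | ∀ a : A, ∀ m, coeff m (a • f) ≠ 0 → m ∈ Δ}
  zero_mem' := fun a m h => absurd (by simp) h
  add_mem' := by
    intro f g hf hg a m h
    rw [smul_add, map_add] at h
    by_cases h1 : coeff m (a • f) = 0
    · rw [h1, zero_add] at h; exact hg a m h
    · exact hf a m h1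
  smul_mem' := by
    intro b f hf a m h
    rw [smul_smul] at h
    exact hf (a * b) m h

/-- `A` is the ring of power series with exponents in `S` -/
def IsMonoRing (A : Type u) [CommRing A] [Algebra A (PowerSeries k)] (S : Set ℕ) : Prop :=
  Function.Injective (algebraMap A (PowerSeries k)) ∧
    ∀ f : PowerSeries k, (∃ a : A, algebraMap A (PowerSeries k) a = f) ↔ ∀ m, coeff m f ≠ 0 → m ∈ S

variable {A}

theorem exists_coeff_mul_ne {f g : PowerSeries k} {m : ℕ} (h : coeff m (f * g) ≠ 0) :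
    ∃ i j, i + j = m ∧ coeff i f ≠ 0 ∧ coeff j g ≠ 0 := by
  rw [PowerSeries.coeff_mul] at h
  obtain ⟨⟨i, j⟩, hij, hne⟩ := Finset.exists_ne_zero_of_sum_ne_zero h
  exact ⟨i, j, Finset.mem_antidiagonal.1 hij, left_ne_zero_of_mul hne, right_ne_zero_of_mul hne⟩

theorem coeff_X_pow_ne {p m : ℕ} (h : coeff m ((X : PowerSeries k) ^ p) ≠ 0) : m = p := by
  rw [coeff_X_pow] at h
  split_ifs at h with he
  · exact he
  · exact absurd rfl h

variable (hA : IsMonoRing (k := k) A S)

include hA in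
theorem mem_mono {Δ : Set ℕ} (hΔ : Closed S Δ) {f : PowerSeries k} :
    f ∈ mono (k := k) A Δ ↔ ∀ m, coeff m f ≠ 0 → m ∈ Δ := by
  refine ⟨fun h m hm => h 1 m (by rwa [one_smul]), fun h a m hm => ?_⟩
  rw [Algebra.smul_def] at hm
  obtain ⟨i, j, rfl, hi, hj⟩ := exists_coeff_mul_ne hm
  exact hΔ i ((hA.2 _).1 ⟨a, rfl⟩ i hi) j (h j hj)

include hA in
theorem X_pow_mem {q : ℕ} (hq : q ∈ S) : ∃ a : A, algebraMap A (PowerSeries k) a = X ^ q :=
  (hA.2 _).2 fun _ hm => coeff_X_pow_ne hm ▸ hq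

theorem shift_closed {Δ : Set ℕ} (hΔ : Closed S Δ) (c : ℕ) : Closed S ((fun p => c + p) '' Δ) := by
  rintro s hs _ ⟨p, hp, rfl⟩
  exact ⟨s + p, hΔ s hs p hp, by simp only; omega⟩

include hA in
theorem X_pow_mul_mem_iff {Δ' : Set ℕ} (hΔ' : Closed S Δ') (c : ℕ) {f : PowerSeries k} :
    X ^ c * f ∈ mono (k := k) A Δ' ↔ ∀ m, coeff m f ≠ 0 → c + m ∈ Δ' := by
  rw [mem_mono hA hΔ']
  constructor
  · intro h m hm
    refine h (c + m) ?_
    rwa [add_comm, coeff_X_pow_mul]
  · intro h m hm
    rw [coeff_X_pow_mul'] at hm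
    split_ifs at hm with hc
    · simpa [Nat.add_sub_cancel' hc] using h (m - c) hm
    · exact absurd rfl hm

include hA in
theorem X_pow_mul_mem_shift {Δ : Set ℕ} (hΔ : Closed S Δ) (c : ℕ) {f : PowerSeries k}
    (hf : f ∈ mono (k := k) A Δ) : X ^ c * f ∈ mono (k := k) A ((fun p => c + p) '' Δ) :=
  (X_pow_mul_mem_iff hA (shift_closed hΔ c) c).2 fun m hm => ⟨m, (mem_mono hA hΔ).1 hf m hm, rfl⟩

include hA in
theorem exists_eq_X_pow_mul {Δ : Set ℕ} (hΔ : Closed S Δ) (c : ℕ) {f : PowerSeries k}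
    (hf : f ∈ mono (k := k) A ((fun p => c + p) '' Δ)) : ∃ h ∈ mono (k := k) A Δ, f = X ^ c * h := by
  rw [mem_mono hA (shift_closed hΔ c)] at hf
  refine ⟨mk fun n => coeff (c + n) f, ?_, ?_⟩
  · rw [mem_mono hA hΔ]
    intro m hm
    rw [coeff_mk] at hm
    obtain ⟨p, hp, he⟩ := hf _ hm
    simp only at he
    exact (show p = m by omega) ▸ hp
  · ext n
    rw [coeff_X_pow_mul']
    split_ifs with hc
    · rw [coeff_mk, Nat.add_sub_cancel' hc]
    · by_contra hne
      obtain ⟨p, -, he⟩ := hf n hne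
      simp only at he
      omega

include hA in
theorem length_step (h0 : 0 ∈ S) {Δ : Set ℕ} {p : ℕ} (hΔ : Closed S Δ)
    (hΔ' : Closed S (insert p Δ)) (hp : p ∉ Δ) :
    Module.length A (↥(mono (k := k) A (insert p Δ)) ⧸ (mono (k := k) A Δ).comap (mono (k := k) A (insert p Δ)).subtype) = 1 := by
  rw [Module.length_eq_one_iff, isSimpleModule_iff_isCoatom]
  refine ⟨?_, fun P hP => ?_⟩
  · rw [Ne, Submodule.comap_subtype_eq_top]
    intro h
    have h1 : (X : PowerSeries k) ^ p ∈ mono (k := k) A (insert p Δ) :=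
      (mem_mono hA hΔ').2 fun m hm => Or.inl (coeff_X_pow_ne hm)
    exact hp ((mem_mono hA hΔ).1 (h h1) p (by simp [coeff_X_pow]))
  · rw [eq_top_iff]
    obtain ⟨f, hfP, hf⟩ := SetLike.exists_of_lt hP
    have hfp : coeff p (f : PowerSeries k) ≠ 0 := by
      intro he
      refine hf ((mem_mono hA hΔ).2 fun m hm => ?_)
      rcases (mem_mono hA hΔ').1 f.2 m hm with rfl | h
      · exact absurd he hm
      · exact h
    intro g _
    obtain ⟨a, ha⟩ := (hA.2 (C (coeff p (g : PowerSeries k) / coeff p (f : PowerSeries k)))).2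
      (fun m hm => by
        rw [coeff_C] at hm
        split_ifs at hm with he
        · exact he ▸ h0
        · exact absurd rfl hm)
    have hg : g - a • f ∈ (mono (k := k) A Δ).comap (mono (k := k) A (insert p Δ)).subtype := by
      refine (mem_mono hA hΔ).2 fun m hm => ?_
      rcases (mem_mono hA hΔ').1 (g - a • f).2 m hm with rfl | h
      · exfalso
        apply hm
        simp only [Submodule.subtype_apply, AddSubgroupClass.coe_sub, Submodule.coe_smul,
          Algebra.smul_def, ha, map_sub, coeff_C_mul, div_mul_cancel₀ _ hfp, sub_self]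
      · exact h
    have := P.add_mem (hP.le hg) (P.smul_mem a hfP)
    rwa [sub_add_cancel] at this

include hA in
theorem mono_mono {Δ Δ' : Set ℕ} (hΔ : Closed S Δ) (hΔ' : Closed S Δ') (h : Δ ⊆ Δ') :
    mono (k := k) A Δ ≤ mono (k := k) A Δ' :=
  fun _ hf => (mem_mono hA hΔ').2 fun m hm => h ((mem_mono hA hΔ).1 hf m hm)

theorem length_trans {R : Type u} {M : Type v} [CommRing R] [AddCommGroup M] [Module R M]
    (P Q T : Submodule R M) (h1 : P ≤ Q) (h2 : Q ≤ T) :
    Module.length R (↥T ⧸ P.comap T.subtype) =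
      Module.length R (↥Q ⧸ P.comap Q.subtype) + Module.length R (↥T ⧸ Q.comap T.subtype) := by
  let i : (↥Q ⧸ P.comap Q.subtype) →ₗ[R] (↥T ⧸ P.comap T.subtype) :=
    (P.comap Q.subtype).mapQ (P.comap T.subtype) (Submodule.inclusion h2) fun x hx => hx
  let π : (↥T ⧸ P.comap T.subtype) →ₗ[R] (↥T ⧸ Q.comap T.subtype) :=
    (P.comap T.subtype).mapQ (Q.comap T.subtype) LinearMap.id fun x hx => h1 hx
  refine Module.length_eq_add_of_exact i π ?_ ?_ ?_
  · rw [← LinearMap.ker_eq_bot, Submodule.eq_bot_iff]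
    intro x hx
    obtain ⟨x, rfl⟩ := Submodule.mkQ_surjective _ x
    exact (Submodule.Quotient.mk_eq_zero _).2
      ((Submodule.Quotient.mk_eq_zero (P.comap T.subtype)).1 (LinearMap.mem_ker.1 hx))
  · intro x
    obtain ⟨x, rfl⟩ := Submodule.mkQ_surjective _ x
    exact ⟨Submodule.Quotient.mk x, rfl⟩
  · intro y
    obtain ⟨y, rfl⟩ := Submodule.mkQ_surjective _ y
    constructor
    · intro h
      exact ⟨Submodule.Quotient.mk ⟨y, (Submodule.Quotient.mk_eq_zero (Q.comap T.subtype)).1 h⟩, rfl⟩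
    · rintro ⟨x, hx⟩
      obtain ⟨x, rfl⟩ := Submodule.mkQ_surjective _ x
      rw [← hx]
      exact (Submodule.Quotient.mk_eq_zero (Q.comap T.subtype)).2 x.2

include hA in
theorem length_quot (h0 : 0 ∈ S) : ∀ (n : ℕ) {Δ Δ' : Set ℕ}, Closed S Δ → Closed S Δ' → Δ ⊆ Δ' →
    (Δ' \ Δ).Finite → (Δ' \ Δ).ncard = n →
    Module.length A (↥(mono (k := k) A Δ') ⧸ (mono (k := k) A Δ).comap (mono (k := k) A Δ').subtype) = n
  | 0, Δ, Δ', hΔ, hΔ', hle, hfin, hn => by
    have : Δ = Δ' := hle.antisymm (Set.sdiff_eq_empty.1 ((Set.ncard_eq_zero hfin).1 hn))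
    subst this
    rw [Nat.cast_zero, Module.length_eq_zero_iff, Submodule.Quotient.subsingleton_iff,
      Submodule.comap_subtype_self]
  | n + 1, Δ, Δ', hΔ, hΔ', hle, hfin, hn => by
    have hne : (Δ' \ Δ).Nonempty := Set.nonempty_of_ncard_ne_zero (by omega)
    obtain ⟨p, hp, hmax⟩ := Set.exists_max_image (Δ' \ Δ) id hfin hne
    have hΔ1 : Closed S (insert p Δ) := by
      intro s hs m hm
      rcases hm with rfl | hm
      · by_cases h : s + m ∈ Δ
        · exact Or.inr h
        · have := hmax (s + m) ⟨hΔ' s hs m hp.1, h⟩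
          simp only [id] at this
          exact Or.inl (by omega)
      · exact Or.inr (hΔ s hs m hm)
    have hle1 : insert p Δ ⊆ Δ' := Set.insert_subset hp.1 hle
    have hd : Δ' \ insert p Δ = (Δ' \ Δ) \ {p} := by
      ext x; simp; tauto
    rw [length_trans (mono (k := k) A Δ) (mono (k := k) A (insert p Δ)) (mono (k := k) A Δ')
        (mono_mono hA hΔ hΔ1 (Set.subset_insert _ _)) (mono_mono hA hΔ1 hΔ' hle1),
      length_step hA h0 hΔ hΔ1 hp.2,
      length_quot h0 n hΔ1 hΔ' hle1 (hd ▸ hfin.subset Set.sdiff_subset)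
        (by rw [hd, Set.ncard_sdiff_singleton_of_mem hp, hn]; omega), Nat.cast_succ, add_comm]

include hA in
/-- a module spanned by monomials is the monomial module -/
theorem span_eq_mono {r : ℕ} (e : Fin r → ℕ) {Δ : Set ℕ} (hΔ : Closed S Δ)
    (hmem : ∀ p, p ∈ Δ ↔ ∃ l, ∃ q ∈ S, p = e l + q) (h0 : (0 : ℕ) ∈ S) :
    Submodule.span A (Set.range fun l => (X : PowerSeries k) ^ e l) = mono (k := k) A Δ := by
  classical
  apply le_antisymm
  · rw [Submodule.span_le]
    rintro _ ⟨l, rfl⟩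
    exact (mem_mono hA hΔ).2 fun m hm => (hmem m).2 ⟨l, 0, h0, coeff_X_pow_ne hm⟩
  · intro f hf
    rw [mem_mono hA hΔ] at hf
    let first : ℕ → Fin r → Prop := fun p l =>
      (∃ q ∈ S, p = e l + q) ∧ ∀ l' < l, ¬ ∃ q ∈ S, p = e l' + q
    let a : Fin r → PowerSeries k := fun l =>
      mk fun q => if q ∈ S ∧ first (e l + q) l then coeff (e l + q) f else 0
    have ha : ∀ l, ∃ b : A, algebraMap A (PowerSeries k) b = a l := fun l => (hA.2 _).2 fun m hm => by
      simp only [a, coeff_mk] at hm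
      split_ifs at hm with h
      · exact h.1
      · exact absurd rfl hm
    have hsum : f = ∑ l, a l * X ^ e l := by
      ext p
      rw [map_sum]
      have hterm : ∀ l, coeff p (a l * X ^ e l) = if first p l then coeff p f else 0 := by
        intro l
        rw [coeff_mul_X_pow']
        by_cases hl : e l ≤ p
        · rw [if_pos hl]
          simp only [a, coeff_mk, Nat.add_sub_cancel' hl]
          by_cases hfst : first p l
          · obtain ⟨q, hq, hpq⟩ := hfst.1
            rw [if_pos ⟨(show p - e l = q by omega) ▸ hq, hfst⟩, if_pos hfst]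
          · rw [if_neg (fun h => hfst h.2), if_neg hfst]
        · rw [if_neg hl, if_neg]
          rintro ⟨⟨q, -, hpq⟩, -⟩
          omega
      simp only [hterm]
      by_cases hp : coeff p f = 0
      · simp [hp]
      obtain ⟨l0, hl0⟩ := (hmem p).1 (hf p hp)
      have hne : (Finset.univ.filter fun l : Fin r => ∃ q ∈ S, p = e l + q).Nonempty :=
        ⟨l0, Finset.mem_filter.2 ⟨Finset.mem_univ _, hl0⟩⟩
      let l := (Finset.univ.filter fun l : Fin r => ∃ q ∈ S, p = e l + q).min' hne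
      have hl : first p l := by
        refine ⟨(Finset.mem_filter.1 (Finset.min'_mem _ hne)).2, fun l' hl' h => ?_⟩
        exact absurd (Finset.min'_le _ l' (Finset.mem_filter.2 ⟨Finset.mem_univ _, h⟩)) (not_le.2 hl')
      rw [Finset.sum_eq_single l, if_pos hl]
      · intro l' _ hne'
        rw [if_neg]
        intro h
        rcases lt_or_gt_of_ne hne' with hlt | hgt
        · exact hl.2 l' hlt h.1
        · exact h.2 l hgt hl.1
      · simp
    rw [hsum]
    refine Submodule.sum_mem _ fun l _ => ?_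
    obtain ⟨b, hb⟩ := ha l
    rw [← hb, ← Algebra.smul_def]
    exact Submodule.smul_mem _ b (Submodule.subset_span ⟨l, rfl⟩)

section Ext

/-- abstract form of the computation of the cokernel of a restriction map -/
theorem length_coker_restrict {R : Type u} [CommRing R] {F W Q₀ : Type u} [AddCommGroup F]
    [Module R F] [AddCommGroup W] [Module R W] [AddCommGroup Q₀] [Module R Q₀] (K : Submodule R F)
    (Φ : (K →ₗ[R] W) →ₗ[R] Q₀) (hΦ : Function.Surjective Φ) (θ : W →ₗ[R] Q₀) (e₀ : F) (ψ : F →ₗ[R] R)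
    (hψ : ψ e₀ = 1) (hres : ∀ f : F →ₗ[R] W, Φ (f.comp K.subtype) = - θ (f e₀))
    (hkerΦ : ∀ φ, Φ φ = 0 → ∃ f : F →ₗ[R] W, f.comp K.subtype = φ) :
    Module.length R ((K →ₗ[R] W) ⧸ LinearMap.range (LinearMap.lcomp R W K.subtype)) +
      Module.length R (W ⧸ LinearMap.ker θ) = Module.length R Q₀ := by
  let Ψ := (LinearMap.range θ).mkQ.comp Φ
  have hΨ : Function.Surjective Ψ := (LinearMap.range θ).mkQ_surjective.comp hΦ
  have hkerΨ : LinearMap.range (LinearMap.lcomp R W K.subtype) = LinearMap.ker Ψ := by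
    apply le_antisymm
    · rintro _ ⟨f, rfl⟩
      refine (Submodule.Quotient.mk_eq_zero _).2 ⟨-(f e₀), ?_⟩
      rw [map_neg]
      exact (hres f).symm
    · intro φ hφ
      obtain ⟨n, hn⟩ := (Submodule.Quotient.mk_eq_zero _).1 (LinearMap.mem_ker.1 hφ)
      let f : F →ₗ[R] W := ψ.smulRight n
      have hf : f e₀ = n := by simp [f, hψ]
      have h0 : Φ (φ + f.comp K.subtype) = 0 := by
        rw [map_add, hres, hf, hn, add_neg_cancel]
      obtain ⟨g, hg⟩ := hkerΦ _ h0
      refine ⟨g - f, ?_⟩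
      rw [map_sub]
      show g.comp K.subtype - f.comp K.subtype = φ
      rw [hg, add_sub_cancel_right]
  rw [((Submodule.quotEquivOfEq _ _ hkerΨ).trans (Ψ.quotKerEquivOfSurjective hΨ)).length_eq,
    Module.length_eq_add_of_exact (LinearMap.range θ).subtype (LinearMap.range θ).mkQ
      (Submodule.injective_subtype _) (Submodule.mkQ_surjective _) (LinearMap.exact_subtype_mkQ _),
    θ.quotKerEquivRange.length_eq, add_comm]

variable {r : ℕ} (e : Fin (r + 1) → ℕ)

omit [Algebra A (PowerSeries k)] in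
theorem single_succ_zero (l : Fin r) (a : A) : (Pi.single l.succ a : Fin (r + 1) → A) 0 = 0 :=
  Pi.single_eq_of_ne (Fin.succ_ne_zero l).symm _

include hA in
theorem key_identity (he0 : e 0 = 0) (c : ℕ) {W : Submodule A (PowerSeries k)}
    (K : Submodule A (Fin (r + 1) → A))
    (hKrel : ∀ a : Fin (r + 1) → A, a ∈ K ↔
      ∑ l, algebraMap A (PowerSeries k) (a l) * X ^ e l = 0)
    (tc : A) (htc : algebraMap A (PowerSeries k) tc = X ^ c)
    (te : Fin r → A) (hte : ∀ l, algebraMap A (PowerSeries k) (te l) = X ^ (c + e l.succ))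
    (w : Fin r → K) (hw : ∀ l, (w l : Fin (r + 1) → A) = Pi.single l.succ tc - Pi.single 0 (te l))
    (φ : K →ₗ[A] W) (a : K) :
    X ^ c * (φ a : PowerSeries k) =
      ∑ l : Fin r, algebraMap A (PowerSeries k) ((a : Fin (r + 1) → A) l.succ) *
        (φ (w l) : PowerSeries k) := by
  have h1 : tc • a = ∑ l : Fin r, (a : Fin (r + 1) → A) l.succ • w l := by
    apply Subtype.ext
    rw [Submodule.coe_smul, Submodule.coe_sum]
    funext i
    simp only [Finset.sum_apply, Submodule.coe_smul, hw, Pi.smul_apply, Pi.sub_apply, smul_eq_mul]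
    refine Fin.cases ?_ (fun j => ?_) i
    · apply hA.1
      have hrel := (hKrel _).1 a.2
      rw [Fin.sum_univ_succ, he0, pow_zero, mul_one] at hrel
      have h2 : ∀ l : Fin r, algebraMap A (PowerSeries k) ((a : Fin (r + 1) → A) l.succ *
          ((Pi.single l.succ tc : Fin (r + 1) → A) 0 - (Pi.single 0 (te l) : Fin (r + 1) → A) 0)) =
          -(X ^ c * (algebraMap A (PowerSeries k) ((a : Fin (r + 1) → A) l.succ) * X ^ e l.succ)) := by
        intro l
        rw [single_succ_zero, Pi.single_eq_same, map_mul, map_sub, map_zero, hte, pow_add]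
        ring
      rw [map_sum, Finset.sum_congr rfl fun l _ => h2 l, Finset.sum_neg_distrib, ← Finset.mul_sum,
        map_mul, htc]
      linear_combination (X ^ c : PowerSeries k) * hrel
    · rw [Finset.sum_eq_single j]
      · rw [Pi.single_eq_same, Pi.single_eq_of_ne (Fin.succ_ne_zero j), sub_zero, mul_comm]
      · intro l _ hl
        rw [Pi.single_eq_of_ne (Fin.succ_ne_zero j),
          Pi.single_eq_of_ne (fun h => hl (Fin.succ_injective _ h).symm), sub_zero, mul_zero]
      · simp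
  have := congrArg (fun x : K => (φ x : PowerSeries k)) h1
  simp only [map_smul, map_sum, Submodule.coe_sum, Submodule.coe_smul] at this
  simpa [Algebra.smul_def, htc] using this

set_option maxHeartbeats 1600000 in
include hA in
/-- length of `Ext¹` from a monomial module to a monomial module -/
theorem length_ext_add {Δ H : Set ℕ} (h0 : 0 ∈ S) (hΔ : Closed S Δ)
    (M : Submodule A (PowerSeries k))
    (hMspan : M = Submodule.span A (Set.range fun l => (X : PowerSeries k) ^ e l))
    (he0 : e 0 = 0) (c : ℕ) (hc : c ∈ S) (hce : ∀ l, c + e l ∈ S)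
    (Γ : Fin r → Set ℕ) (hΓ : ∀ l, Closed S (Γ l))
    (hgood : ∀ g : Fin r → PowerSeries k,
      (∀ a : Fin (r + 1) → A, ∑ l, algebraMap A (PowerSeries k) (a l) * X ^ e l = 0 →
        ∑ l : Fin r, algebraMap A (PowerSeries k) (a l.succ) * g l ∈
          mono (k := k) A ((fun p => c + p) '' Δ)) ↔
      ∀ l, g l ∈ mono (k := k) A (Γ l))
    (hH : ∀ p, p ∈ H ↔ p ∈ Δ ∧ ∀ l : Fin r, e l.succ + p ∈ Δ)
    (hHfin : (Δ \ H).Finite) (hΓfin : ∀ l, (Γ l \ (fun p => c + p) '' Δ).Finite) :
    Module.length A (Abelian.Ext (ModuleCat.of A M) (ModuleCat.of A ↥(mono (k := k) A Δ)) 1) +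
        ((Δ \ H).ncard : ℕ∞) =
      ((∑ l, (Γ l \ (fun p => c + p) '' Δ).ncard : ℕ) : ℕ∞) := by
  classical
  set cΔ := (fun p => c + p) '' Δ with hcΔ'
  have hcΔ : Closed S cΔ := shift_closed hΔ c
  have hMe : ∀ l, (X : PowerSeries k) ^ e l ∈ M := fun l =>
    hMspan ▸ Submodule.subset_span ⟨l, rfl⟩
  let π : (Fin (r + 1) → A) →ₗ[A] M :=
    Fintype.linearCombination A (fun l => (⟨X ^ e l, hMe l⟩ : M))
  have hπc : ∀ a, (π a : PowerSeries k) = ∑ l, algebraMap A (PowerSeries k) (a l) * X ^ e l := fun a => by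
    simp [π, Fintype.linearCombination_apply, Algebra.smul_def]
  have hπ : Function.Surjective π := by
    intro x
    have hx : (x : PowerSeries k) ∈ Submodule.span A (Set.range fun l => (X : PowerSeries k) ^ e l) :=
      hMspan ▸ x.2
    obtain ⟨a, ha⟩ := (Submodule.mem_span_range_iff_exists_fun A).1 hx
    refine ⟨a, Subtype.ext ?_⟩
    rw [hπc, ← ha]
    simp [Algebra.smul_def]
  set K := LinearMap.ker π with hK
  have hKrel : ∀ a : Fin (r + 1) → A, a ∈ K ↔
      ∑ l, algebraMap A (PowerSeries k) (a l) * X ^ e l = 0 := by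
    intro a
    rw [hK, LinearMap.mem_ker, ← hπc a, Submodule.coe_eq_zero]
  obtain ⟨ε⟩ := T2Ext3.nonempty_coker_equiv_ext K.subtype π (LinearMap.exact_subtype_ker_map π) hπ
    ↥(mono (k := k) A Δ) (fun φ z hz => by
      rw [show z = 0 from Subtype.ext hz, map_zero])
  rw [← ε.length_eq]
  -- test relations
  obtain ⟨tc, htc⟩ := X_pow_mem hA hc
  choose te hte using fun l : Fin r => X_pow_mem hA (hce l.succ)
  have hwK : ∀ l, (Pi.single l.succ tc - Pi.single 0 (te l) : Fin (r + 1) → A) ∈ K := by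
    intro l
    rw [hKrel]
    simp only [Pi.sub_apply, map_sub, sub_mul, Finset.sum_sub_distrib]
    rw [Finset.sum_eq_single l.succ (fun b _ hb => by simp [Pi.single_eq_of_ne hb]) (by simp),
      Finset.sum_eq_single 0 (fun b _ hb => by simp [Pi.single_eq_of_ne hb]) (by simp),
      Pi.single_eq_same, Pi.single_eq_same, he0, htc, hte, pow_add, pow_zero, mul_one, sub_self]
  let w : Fin r → K := fun l => ⟨_, hwK l⟩
  have hw : ∀ l, (w l : Fin (r + 1) → A) = Pi.single l.succ tc - Pi.single 0 (te l) := fun l => rfl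
  have hkey := key_identity hA e he0 c (W := mono (k := k) A Δ) K hKrel tc htc te hte w hw
  -- the values on the test relations
  let Q : Fin r → Type u := fun l => ↥(mono (k := k) A (Γ l)) ⧸ (mono (k := k) A cΔ).comap (mono (k := k) A (Γ l)).subtype
  letI instQg : ∀ l, AddCommGroup (Q l) := fun l => Submodule.Quotient.addCommGroup _
  letI instQm : ∀ l, Module A (Q l) := fun l => Submodule.Quotient.module _
  letI instPm : Module A (∀ l, Q l) := Pi.module _ _ _
  have hval : ∀ (φ : K →ₗ[A] ↥(mono (k := k) A Δ)) (l : Fin r),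
      (φ (w l) : PowerSeries k) ∈ mono (k := k) A (Γ l) := by
    intro φ
    refine (hgood fun l => (φ (w l) : PowerSeries k)).1 fun a ha => ?_
    rw [← hkey φ ⟨a, (hKrel a).2 ha⟩]
    exact X_pow_mul_mem_shift hA hΔ c (φ _).2
  let Φ : (K →ₗ[A] ↥(mono (k := k) A Δ)) →ₗ[A] (∀ l, Q l) :=
    LinearMap.pi fun l => ((mono (k := k) A cΔ).comap (mono (k := k) A (Γ l)).subtype).mkQ ∘ₗ
      LinearMap.codRestrict (mono (k := k) A (Γ l))
        ((mono (k := k) A Δ).subtype ∘ₗ LinearMap.applyₗ' A (w l)) (fun φ => hval φ l)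
  have hΦ : Function.Surjective Φ := by
    intro y
    have := fun l => Submodule.Quotient.mk_surjective ((mono (k := k) A cΔ).comap (mono (k := k) A (Γ l)).subtype) (y l)
    choose g hg using this
    have hgK : ∀ a : K, ∑ l : Fin r, algebraMap A (PowerSeries k) ((a : Fin (r + 1) → A) l.succ) *
        (g l : PowerSeries k) ∈ mono (k := k) A cΔ := fun a =>
      (hgood fun l => (g l : PowerSeries k)).2 (fun l => (g l).2) _ ((hKrel _).1 a.2)
    let μ : ↥(mono (k := k) A Δ) →ₗ[A] ↥(mono (k := k) A cΔ) :=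
      LinearMap.codRestrict (mono (k := k) A cΔ) ((LinearMap.mulLeft A ((X : PowerSeries k) ^ c)).comp
        (mono (k := k) A Δ).subtype) (fun f => X_pow_mul_mem_shift hA hΔ c f.2)
    have hμ : Function.Bijective μ := by
      refine ⟨fun f f' h => Subtype.ext (mul_left_cancel₀ (pow_ne_zero c X_ne_zero)
        (congrArg Subtype.val h)), fun f => ?_⟩
      obtain ⟨h, hh, he⟩ := exists_eq_X_pow_mul hA hΔ c f.2
      exact ⟨⟨h, hh⟩, Subtype.ext he.symm⟩
    let σ : K →ₗ[A] ↥(mono (k := k) A cΔ) :=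
      { toFun := fun a => ⟨_, hgK a⟩
        map_add' := fun a b => Subtype.ext (by simp [add_mul, Finset.sum_add_distrib])
        map_smul' := fun t a => Subtype.ext (by simp [Algebra.smul_def, mul_assoc, Finset.mul_sum]) }
    let φ : K →ₗ[A] ↥(mono (k := k) A Δ) := (LinearEquiv.ofBijective μ hμ).symm.toLinearMap.comp σ
    refine ⟨φ, funext fun l => ?_⟩
    have h1 : μ (φ (w l)) = σ (w l) := (LinearEquiv.ofBijective μ hμ).apply_symm_apply _
    have h2 := congrArg Subtype.val h1
    change X ^ c * (φ (w l) : PowerSeries k) = ∑ m : Fin r,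
      algebraMap A (PowerSeries k) ((w l : Fin (r + 1) → A) m.succ) * (g m : PowerSeries k) at h2
    rw [Finset.sum_eq_single l] at h2
    · have h3 : (φ (w l) : PowerSeries k) = g l := by
        refine mul_left_cancel₀ (pow_ne_zero c X_ne_zero) (h2.trans ?_)
        simp [hw, Pi.single_eq_same, Pi.single_eq_of_ne (Fin.succ_ne_zero l), htc]
      rw [← hg l]
      exact congrArg Submodule.Quotient.mk (Subtype.ext h3)
    · intro m _ hm
      simp [hw, Pi.single_eq_of_ne (Fin.succ_ne_zero m),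
        Pi.single_eq_of_ne (fun h => hm (Fin.succ_injective _ h))]
    · simp
  -- the contribution of the first coordinate
  have hθmem : ∀ (n : ↥(mono (k := k) A Δ)) (l : Fin r),
      X ^ (c + e l.succ) * (n : PowerSeries k) ∈ mono (k := k) A (Γ l) := by
    intro n
    refine (hgood fun l => X ^ (c + e l.succ) * (n : PowerSeries k)).1 fun a ha => ?_
    rw [Fin.sum_univ_succ, he0, pow_zero, mul_one] at ha
    have h1 : ∑ l : Fin r, algebraMap A (PowerSeries k) (a l.succ) *
        (X ^ (c + e l.succ) * (n : PowerSeries k)) = X ^ c * ((-a 0) • (n : PowerSeries k)) := by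
      have h3 : ∀ l : Fin r, algebraMap A (PowerSeries k) (a l.succ) *
          (X ^ (c + e l.succ) * (n : PowerSeries k)) =
          X ^ c * (n : PowerSeries k) * (algebraMap A (PowerSeries k) (a l.succ) * X ^ e l.succ) :=
        fun l => by rw [pow_add]; ring
      rw [Finset.sum_congr rfl fun l _ => h3 l, ← Finset.mul_sum, Algebra.smul_def, map_neg]
      linear_combination (X ^ c * (n : PowerSeries k)) * ha
    rw [h1]
    exact X_pow_mul_mem_shift hA hΔ c ((mono (k := k) A Δ).smul_mem _ n.2)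
  let θ : ↥(mono (k := k) A Δ) →ₗ[A] (∀ l, Q l) :=
    LinearMap.pi fun l => ((mono (k := k) A cΔ).comap (mono (k := k) A (Γ l)).subtype).mkQ ∘ₗ
      LinearMap.codRestrict (mono (k := k) A (Γ l))
        ((LinearMap.mulLeft A ((X : PowerSeries k) ^ (c + e l.succ))) ∘ₗ (mono (k := k) A Δ).subtype)
        (fun n => hθmem n l)
  have hres : ∀ (f : (Fin (r + 1) → A) →ₗ[A] ↥(mono (k := k) A Δ)),
      Φ (f.comp K.subtype) = - θ (f (Pi.single 0 1)) := by
    intro f
    funext l
    rw [Pi.neg_apply]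
    show Submodule.Quotient.mk _ = - Submodule.Quotient.mk _
    rw [← Submodule.Quotient.mk_neg, Submodule.Quotient.eq, Submodule.mem_comap]
    have hw' : (w l : Fin (r + 1) → A) = tc • Pi.single l.succ 1 - te l • Pi.single 0 1 := by
      rw [hw, ← Pi.single_smul, ← Pi.single_smul, smul_eq_mul, smul_eq_mul, mul_one, mul_one]
    show ((f (w l : Fin (r + 1) → A) : PowerSeries k) -
      -(X ^ (c + e l.succ) * (f (Pi.single 0 1) : PowerSeries k))) ∈ mono (k := k) A cΔ
    rw [hw', map_sub, map_smul, map_smul]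
    simp only [AddSubgroupClass.coe_sub, Submodule.coe_smul, Algebra.smul_def, htc, hte]
    rw [sub_neg_eq_add, sub_add_cancel]
    exact X_pow_mul_mem_shift hA hΔ c (f _).2
  have hkerΦ : ∀ φ, Φ φ = 0 → ∃ f : (Fin (r + 1) → A) →ₗ[A] ↥(mono (k := k) A Δ),
      f.comp K.subtype = φ := by
    intro φ hφ
    have := fun l => exists_eq_X_pow_mul hA hΔ c
      ((Submodule.Quotient.mk_eq_zero ((mono (k := k) A cΔ).comap (mono (k := k) A (Γ l)).subtype)).1 (congrFun hφ l))
    choose h hh heq using this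
    let n : Fin (r + 1) → ↥(mono (k := k) A Δ) := Fin.cons 0 fun l => ⟨h l, hh l⟩
    refine ⟨Fintype.linearCombination A n, LinearMap.ext fun a => ?_⟩
    apply Subtype.ext
    apply mul_left_cancel₀ (pow_ne_zero c (X_ne_zero (R := k)))
    rw [hkey φ a]
    simp only [LinearMap.comp_apply, Submodule.subtype_apply, Fintype.linearCombination_apply,
      Submodule.coe_sum, Submodule.coe_smul, Algebra.smul_def, Finset.mul_sum]
    rw [Fin.sum_univ_succ]
    simp only [n, Fin.cons_zero, Fin.cons_succ, ZeroMemClass.coe_zero, mul_zero, zero_add]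
    refine Finset.sum_congr rfl fun l _ => ?_
    rw [show (φ (w l) : PowerSeries k) = X ^ c * h l from heq l]
    ring
  -- lengths
  have hHc : Closed S H := fun s hs p hp => by
    rw [hH] at hp ⊢
    exact ⟨hΔ s hs p hp.1, fun l => by
      have := hΔ s hs _ (hp.2 l)
      rwa [← add_assoc, add_comm (e _) s, add_assoc]⟩
  have hHsub : H ⊆ Δ := fun p hp => ((hH p).1 hp).1
  have hkerθ : LinearMap.ker θ = (mono (k := k) A H).comap (mono (k := k) A Δ).subtype := by
    ext n
    rw [LinearMap.mem_ker, Submodule.mem_comap, mem_mono hA hHc, funext_iff]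
    constructor
    · intro h m hm
      refine (hH m).2 ⟨(mem_mono hA hΔ).1 n.2 m hm, fun l => ?_⟩
      have h1 := (Submodule.Quotient.mk_eq_zero _).1 (h l)
      obtain ⟨p, hp, he⟩ := (X_pow_mul_mem_iff hA hcΔ (c + e l.succ)).1 h1 m hm
      simp only at he
      exact (show p = e l.succ + m by omega) ▸ hp
    · intro h l
      refine (Submodule.Quotient.mk_eq_zero _).2
        ((X_pow_mul_mem_iff hA hcΔ (c + e l.succ)).2 fun m hm => ?_)
      exact ⟨e l.succ + m, ((hH m).1 (h m hm)).2 l, by simp only; omega⟩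
  have hQ : Module.length A (∀ l, Q l) = ((∑ l, (Γ l \ cΔ).ncard : ℕ) : ℕ∞) := by
    rw [Module.length_pi_of_fintype, Nat.cast_sum]
    refine Finset.sum_congr rfl fun l _ => length_quot hA h0 _ hcΔ (hΓ l) ?_ (hΓfin l) rfl
    rintro _ ⟨p, hp, rfl⟩
    have h1 := (hgood (Pi.single l (X ^ (c + p)))).1 (fun a _ => ?_) l
    · rw [Pi.single_eq_same, mem_mono hA (hΓ l)] at h1
      exact h1 (c + p) (by simp [coeff_X_pow])
    · rw [Finset.sum_eq_single l (fun b _ hb => by simp [Pi.single_eq_of_ne hb]) (by simp),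
        Pi.single_eq_same, ← Algebra.smul_def]
      refine (mono (k := k) A cΔ).smul_mem (a l.succ) ?_
      exact (mem_mono hA hcΔ).2 fun m hm => ⟨p, hp, (coeff_X_pow_ne hm).symm⟩
  have hmain := length_coker_restrict (W := ↥(mono (k := k) A Δ)) (Q₀ := ∀ l, Q l) K Φ hΦ θ (Pi.single 0 1) (LinearMap.proj 0)
    (by simp) hres hkerΦ
  rw [(Submodule.quotEquivOfEq _ _ hkerθ).length_eq, length_quot hA h0 _ hHc hΔ hHsub hHfin rfl,
    hQ] at hmain
  exact hmain

include hA in
/-- `hgood` for relations whose coordinates are supported on the expected exponents -/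
theorem good_of_supp {r : ℕ} (e : Fin (r + 1) → ℕ) (he0 : e 0 = 0) {Δ : Set ℕ} (hΔ : Closed S Δ)
    (c : ℕ) (Γ : Fin r → Set ℕ)
    (hΓ : ∀ l p, p ∈ Γ l ↔ ∀ q ∈ S, e l.succ + q ∈ S → p + q ∈ (fun p => c + p) '' Δ)
    (hsupp : ∀ a : Fin (r + 1) → A, ∑ l, algebraMap A (PowerSeries k) (a l) * X ^ e l = 0 →
      ∀ (l : Fin r) (m : ℕ), coeff m (algebraMap A (PowerSeries k) (a l.succ)) ≠ 0 →
        e l.succ + m ∈ S) :
    (∀ l, Closed S (Γ l)) ∧
    ∀ g : Fin r → PowerSeries k,
      (∀ a : Fin (r + 1) → A, ∑ l, algebraMap A (PowerSeries k) (a l) * X ^ e l = 0 →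
        ∑ l : Fin r, algebraMap A (PowerSeries k) (a l.succ) * g l ∈
          mono (k := k) A ((fun p => c + p) '' Δ)) ↔
      ∀ l, g l ∈ mono (k := k) A (Γ l) := by
  have hcΔ := shift_closed hΔ c
  have hΓc : ∀ l, Closed S (Γ l) := fun l s hs p hp => (hΓ l _).2 fun q hq hq' => by
    rw [add_assoc]
    exact hcΔ s hs _ ((hΓ l p).1 hp q hq hq')
  refine ⟨hΓc, fun g => ⟨fun h l => (mem_mono hA (hΓc l)).2 fun p hp => (hΓ l p).2 fun q hq hq' => ?_,
    fun h a ha => Submodule.sum_mem _ fun l _ => ?_⟩⟩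
  · obtain ⟨tq, htq⟩ := X_pow_mem hA hq
    obtain ⟨te, hte⟩ := X_pow_mem hA hq'
    have h1 := h (Pi.single l.succ tq - Pi.single 0 te) (by
      simp only [Pi.sub_apply, map_sub, sub_mul, Finset.sum_sub_distrib]
      rw [Finset.sum_eq_single l.succ (fun b _ hb => by simp [Pi.single_eq_of_ne hb]) (by simp),
        Finset.sum_eq_single 0 (fun b _ hb => by simp [Pi.single_eq_of_ne hb]) (by simp),
        Pi.single_eq_same, Pi.single_eq_same, he0, htq, hte, pow_add, pow_zero, mul_one, mul_comm,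
        sub_self])
    rw [Finset.sum_eq_single l (fun b _ hb => by
        simp [Pi.single_eq_of_ne (Fin.succ_ne_zero b),
          Pi.single_eq_of_ne (fun he => hb (Fin.succ_injective _ he))]) (by simp),
      Pi.sub_apply, Pi.single_eq_same, Pi.single_eq_of_ne (Fin.succ_ne_zero l), sub_zero, htq,
      X_pow_mul_mem_iff hA hcΔ] at h1
    rw [add_comm]
    exact h1 p hp
  · refine (mem_mono hA hcΔ).2 fun m hm => ?_
    obtain ⟨i, j, rfl, hi, hj⟩ := exists_coeff_mul_ne hm
    rw [add_comm]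
    exact (hΓ l j).1 ((mem_mono hA (hΓc l)).1 (h l) j hj) i ((hA.2 _).1 ⟨_, rfl⟩ i hi)
      (hsupp a ha l i hi)

end Ext

/-- cancelling the finite defect -/
theorem eq_of_add_eq {L : ℕ∞} {a b d : ℕ} (h : L + (a : ℕ∞) = (b : ℕ∞)) (hd : d + a = b) :
    L = (d : ℕ∞) := by
  have h2 : L + (a : ℕ∞) = (d : ℕ∞) + (a : ℕ∞) := by rw [h, ← hd, Nat.cast_add]
  exact ENat.add_right_injective_of_ne_top (ENat.natCast_ne_top a) (by simpa [add_comm] using h2)

/-- a monomial subalgebra is a monomial ring -/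
theorem isMonoRing_subalgebra (A : Subalgebra k (PowerSeries k)) {S : Set ℕ}
    (hA : ∀ f : PowerSeries k, f ∈ A ↔ ∀ m, coeff m f ≠ 0 → m ∈ S) :
    IsMonoRing (k := k) A S :=
  ⟨fun _ _ h => Subtype.ext h, fun f => ⟨fun ⟨a, ha⟩ => (hA f).1 (ha ▸ a.2),
    fun h => ⟨⟨f, (hA f).2 h⟩, rfl⟩⟩⟩

end Groth.Agent.MonoExt1
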