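import Groth.Agent.Lib.MonoExt1.Basic

/-!
# Relations between monomial generators over the cubical monomial ring
-/

set_option autoImplicit false
universe u

namespace Groth.Agent.MonoExt1

theorem cubical_supp {k : Type u} [Field k] {A : Type u} [CommRing A] [Algebra A (PowerSeries k)]
    {S : Set ℕ} (hA : IsMonoRing (k := k) A S) (n : ℕ) (hS : ∀ m, m ∈ S ↔ m = 0 ∨ n ≤ m) {r : ℕ}
    (e : Fin (r + 1) → ℕ) (he : Function.Injective e) (hlt : ∀ l, e l < n)
    (a : Fin (r + 1) → A)
    (ha : ∑ l, algebraMap A (PowerSeries k) (a l) * PowerSeries.X ^ e l = 0) (l : Fin r) (m : ℕ)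
    (hm : PowerSeries.coeff m (algebraMap A (PowerSeries k) (a l.succ)) ≠ 0) : e l.succ + m ∈ S := by
  rcases (hS m).1 ((hA.2 _).1 ⟨_, rfl⟩ m hm) with rfl | h
  · exfalso
    apply hm
    have h1 := congrArg (PowerSeries.coeff (e l.succ)) ha
    rw [map_sum, map_zero, Finset.sum_eq_single l.succ] at h1
    · simpa [PowerSeries.coeff_mul_X_pow'] using h1
    · intro b _ hb
      rw [PowerSeries.coeff_mul_X_pow']
      split_ifs with hle
      · by_contra hne
        rcases (hS _).1 ((hA.2 _).1 ⟨_, rfl⟩ _ hne) with h | h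
        · exact hb (he (by omega))
        · have := hlt l.succ
          omega
      · rfl
    · simp
  · exact (hS _).2 (Or.inr (by omega))
end Groth.Agent.MonoExt1
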